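import Cfsg.Agent.E6TwoFive.Setup

/-!
The paths of the Weyl words fixing the orbit.
-/

set_option autoImplicit false

namespace CfsgLib.E6TwoFive

/-- A step: word, state before, state after, and a witness (empty for a single long root). -/
def steps : List (List (Fin 4) × Bool × Bool × List (ℕ × ℕ)) :=
  [([0], false, false, []),
   ([0], true, true, []),
   ([1], false, false, []),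
   ([2, 3], true, false, [(56, 1), (36, 1)]),
   ([3, 2], false, true, [(42, 1), (37, 1)]),
   ([1, 2, 1], true, true, [(39, 1)])]

/-- A node: word, state, bound, parent, step. -/
def nodes : List (List (Fin 4) × Bool × ℕ × ℕ × ℕ) :=
  [([], false, 1, 0, 0),
   ([0], false, 2, 0, 0),
   ([1], false, 2, 0, 2),
   ([2, 3], true, 1, 0, 3),
   ([0, 1], false, 4, 1, 2),
   ([0, 2, 3], true, 2, 1, 3),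
   ([1, 0], false, 4, 2, 0),
   ([1, 2, 3], true, 2, 2, 3),
   ([2, 3, 1, 2, 1], true, 1, 3, 5),
   ([0, 1, 0], false, 8, 4, 0),
   ([0, 1, 2, 3], true, 4, 4, 3),
   ([0, 2, 3, 1, 2, 1], true, 2, 5, 5),
   ([1, 0, 2, 3], true, 4, 6, 3),
   ([1, 2, 3, 1, 2, 1], true, 2, 7, 5),
   ([2, 3, 1, 2, 1, 0], true, 2, 8, 1),
   ([2, 3, 1, 2, 1, 3, 2], false, 1, 8, 4),
   ([0, 1, 0, 2, 3], true, 8, 9, 3),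
   ([0, 1, 2, 3, 1, 2, 1], true, 4, 10, 5),
   ([0, 2, 3, 1, 2, 1, 0], true, 4, 11, 1),
   ([0, 2, 3, 1, 2, 1, 3, 2], false, 2, 11, 4),
   ([1, 0, 2, 3, 1, 2, 1], true, 4, 12, 5),
   ([1, 2, 3, 1, 2, 1, 0], true, 4, 13, 1),
   ([1, 2, 3, 1, 2, 1, 3, 2], false, 2, 13, 4),
   ([2, 3, 1, 2, 1, 0, 3, 2], false, 2, 14, 4),
   ([2, 3, 1, 2, 1, 0, 1, 2, 1], true, 2, 14, 5),
   ([0, 1, 0, 2, 3, 1, 2, 1], true, 8, 16, 5),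
   ([0, 1, 2, 3, 1, 2, 1, 0], true, 8, 17, 1),
   ([0, 1, 2, 3, 1, 2, 1, 3, 2], false, 4, 17, 4),
   ([0, 2, 3, 1, 2, 1, 0, 3, 2], false, 4, 18, 4),
   ([0, 2, 3, 1, 2, 1, 0, 1, 2, 1], true, 4, 18, 5),
   ([1, 0, 2, 3, 1, 2, 1, 0], true, 8, 20, 1),
   ([1, 0, 2, 3, 1, 2, 1, 3, 2], false, 4, 20, 4),
   ([1, 2, 3, 1, 2, 1, 0, 3, 2], false, 4, 21, 4),
   ([1, 2, 3, 1, 2, 1, 0, 1, 2, 1], true, 4, 21, 5),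
   ([2, 3, 1, 2, 1, 0, 3, 2, 1], false, 4, 23, 2),
   ([2, 3, 1, 2, 1, 0, 1, 2, 1, 3, 2], false, 2, 24, 4),
   ([0, 1, 0, 2, 3, 1, 2, 1, 0], true, 16, 25, 1),
   ([0, 1, 0, 2, 3, 1, 2, 1, 3, 2], false, 8, 25, 4),
   ([0, 1, 2, 3, 1, 2, 1, 0, 3, 2], false, 8, 26, 4),
   ([0, 1, 2, 3, 1, 2, 1, 0, 1, 2, 1], true, 8, 26, 5),
   ([0, 2, 3, 1, 2, 1, 0, 3, 2, 1], false, 8, 28, 2),
   ([0, 2, 3, 1, 2, 1, 0, 1, 2, 1, 3, 2], false, 4, 29, 4),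
   ([1, 0, 2, 3, 1, 2, 1, 0, 3, 2], false, 8, 30, 4),
   ([1, 0, 2, 3, 1, 2, 1, 0, 1, 2, 1], true, 8, 30, 5),
   ([1, 2, 3, 1, 2, 1, 0, 3, 2, 1], false, 8, 32, 2),
   ([1, 2, 3, 1, 2, 1, 0, 1, 2, 1, 3, 2], false, 4, 33, 4),
   ([2, 3, 1, 2, 1, 0, 3, 2, 1, 2, 3], true, 4, 34, 3),
   ([2, 3, 1, 2, 1, 0, 1, 2, 1, 3, 2, 1], false, 4, 35, 2),
   ([0, 1, 0, 2, 3, 1, 2, 1, 0, 3, 2], false, 16, 36, 4),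
   ([0, 1, 0, 2, 3, 1, 2, 1, 0, 1, 2, 1], true, 16, 36, 5),
   ([0, 1, 2, 3, 1, 2, 1, 0, 3, 2, 1], false, 16, 38, 2),
   ([0, 1, 2, 3, 1, 2, 1, 0, 1, 2, 1, 3, 2], false, 8, 39, 4),
   ([0, 2, 3, 1, 2, 1, 0, 3, 2, 1, 2, 3], true, 8, 40, 3),
   ([0, 2, 3, 1, 2, 1, 0, 1, 2, 1, 3, 2, 1], false, 8, 41, 2),
   ([1, 0, 2, 3, 1, 2, 1, 0, 3, 2, 1], false, 16, 42, 2),
   ([1, 0, 2, 3, 1, 2, 1, 0, 1, 2, 1, 3, 2], false, 8, 43, 4),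
   ([1, 2, 3, 1, 2, 1, 0, 3, 2, 1, 2, 3], true, 8, 44, 3),
   ([1, 2, 3, 1, 2, 1, 0, 1, 2, 1, 3, 2, 1], false, 8, 45, 2),
   ([2, 3, 1, 2, 1, 0, 3, 2, 1, 2, 3, 1, 2, 1], true, 4, 46, 5),
   ([2, 3, 1, 2, 1, 0, 1, 2, 1, 3, 2, 1, 0], false, 8, 47, 0),
   ([0, 1, 0, 2, 3, 1, 2, 1, 0, 3, 2, 1], false, 32, 48, 2),
   ([0, 1, 0, 2, 3, 1, 2, 1, 0, 1, 2, 1, 3, 2], false, 16, 49, 4),
   ([0, 1, 2, 3, 1, 2, 1, 0, 3, 2, 1, 2, 3], true, 16, 50, 3),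
   ([0, 1, 2, 3, 1, 2, 1, 0, 1, 2, 1, 3, 2, 1], false, 16, 51, 2),
   ([0, 2, 3, 1, 2, 1, 0, 3, 2, 1, 2, 3, 1, 2, 1], true, 8, 52, 5),
   ([0, 2, 3, 1, 2, 1, 0, 1, 2, 1, 3, 2, 1, 0], false, 16, 53, 0),
   ([1, 0, 2, 3, 1, 2, 1, 0, 3, 2, 1, 2, 3], true, 16, 54, 3),
   ([1, 0, 2, 3, 1, 2, 1, 0, 1, 2, 1, 3, 2, 1], false, 16, 55, 2),
   ([1, 2, 3, 1, 2, 1, 0, 3, 2, 1, 2, 3, 1, 2, 1], true, 8, 56, 5),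
   ([1, 2, 3, 1, 2, 1, 0, 1, 2, 1, 3, 2, 1, 0], false, 16, 57, 0),
   ([2, 3, 1, 2, 1, 0, 3, 2, 1, 2, 3, 1, 2, 1, 0], true, 8, 58, 1),
   ([0, 1, 0, 2, 3, 1, 2, 1, 0, 3, 2, 1, 2, 3], true, 32, 60, 3),
   ([0, 1, 0, 2, 3, 1, 2, 1, 0, 1, 2, 1, 3, 2, 1], false, 32, 61, 2),
   ([0, 1, 2, 3, 1, 2, 1, 0, 3, 2, 1, 2, 3, 1, 2, 1], true, 16, 62, 5),
   ([0, 1, 2, 3, 1, 2, 1, 0, 1, 2, 1, 3, 2, 1, 0], false, 32, 63, 0),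
   ([0, 2, 3, 1, 2, 1, 0, 3, 2, 1, 2, 3, 1, 2, 1, 0], true, 16, 64, 1),
   ([1, 0, 2, 3, 1, 2, 1, 0, 3, 2, 1, 2, 3, 1, 2, 1], true, 16, 66, 5),
   ([1, 0, 2, 3, 1, 2, 1, 0, 1, 2, 1, 3, 2, 1, 0], false, 32, 67, 0),
   ([1, 2, 3, 1, 2, 1, 0, 3, 2, 1, 2, 3, 1, 2, 1, 0], true, 16, 68, 1),
   ([2, 3, 1, 2, 1, 0, 3, 2, 1, 2, 3, 1, 2, 1, 0, 1, 2, 1], true, 8, 70, 5),
   ([0, 1, 0, 2, 3, 1, 2, 1, 0, 3, 2, 1, 2, 3, 1, 2, 1], true, 32, 71, 5),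
   ([0, 1, 0, 2, 3, 1, 2, 1, 0, 1, 2, 1, 3, 2, 1, 0], false, 64, 72, 0),
   ([0, 1, 2, 3, 1, 2, 1, 0, 3, 2, 1, 2, 3, 1, 2, 1, 0], true, 32, 73, 1),
   ([0, 2, 3, 1, 2, 1, 0, 3, 2, 1, 2, 3, 1, 2, 1, 0, 1, 2, 1], true, 16, 75, 5),
   ([1, 0, 2, 3, 1, 2, 1, 0, 3, 2, 1, 2, 3, 1, 2, 1, 0], true, 32, 76, 1),
   ([1, 2, 3, 1, 2, 1, 0, 3, 2, 1, 2, 3, 1, 2, 1, 0, 1, 2, 1], true, 16, 78, 5),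
   ([2, 3, 1, 2, 1, 0, 3, 2, 1, 2, 3, 1, 2, 1, 0, 1, 2, 1, 3, 2], false, 8, 79, 4),
   ([0, 1, 0, 2, 3, 1, 2, 1, 0, 3, 2, 1, 2, 3, 1, 2, 1, 0], true, 64, 80, 1),
   ([0, 1, 2, 3, 1, 2, 1, 0, 3, 2, 1, 2, 3, 1, 2, 1, 0, 1, 2, 1], true, 32, 82, 5),
   ([0, 2, 3, 1, 2, 1, 0, 3, 2, 1, 2, 3, 1, 2, 1, 0, 1, 2, 1, 3, 2], false, 16, 83, 4),
   ([1, 0, 2, 3, 1, 2, 1, 0, 3, 2, 1, 2, 3, 1, 2, 1, 0, 1, 2, 1], true, 32, 84, 5),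
   ([1, 2, 3, 1, 2, 1, 0, 3, 2, 1, 2, 3, 1, 2, 1, 0, 1, 2, 1, 3, 2], false, 16, 85, 4),
   ([0, 1, 0, 2, 3, 1, 2, 1, 0, 3, 2, 1, 2, 3, 1, 2, 1, 0, 1, 2, 1], true, 64, 87, 5),
   ([0, 1, 2, 3, 1, 2, 1, 0, 3, 2, 1, 2, 3, 1, 2, 1, 0, 1, 2, 1, 3, 2], false, 32, 88, 4),
   ([1, 0, 2, 3, 1, 2, 1, 0, 3, 2, 1, 2, 3, 1, 2, 1, 0, 1, 2, 1, 3, 2], false, 32, 90, 4),
   ([0, 1, 0, 2, 3, 1, 2, 1, 0, 3, 2, 1, 2, 3, 1, 2, 1, 0, 1, 2, 1, 3, 2], false, 64, 92, 4)]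

/-- The nodes fixing the orbit pointwise. -/
def keepN : List ℕ := [0, 1, 2, 4, 6, 9, 35, 41, 45, 47, 51, 53, 55, 57, 59, 61, 63, 65, 67, 69, 72, 74, 77, 81]

/-- The nodes exchanging the orbit. -/
def swapN : List ℕ := [15, 19, 22, 23, 27, 28, 31, 32, 34, 37, 38, 40, 42, 44, 48, 50, 54, 60, 86, 89, 91, 93, 94, 95]

/-- The node of the longest word. -/
def topN : ℕ := 95

end CfsgLib.E6TwoFive
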