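import Cfsg.Agent.E6TwoFive.LetterData

/-! Sparse forms of the literal root elements. -/

set_option autoImplicit false

namespace CfsgLib.E6TwoFive

/-- The entries outside the identity matrix, row, column, code. -/
def sparse : List ((Nat × Nat) × List (Nat × Nat) × List (Nat × Nat × Nat)) :=
  [((56, 1), mx56_1, [(62, 2, 1), (22, 11, 1), (23, 12, 1), (24, 13, 1), (25, 14, 1), (26, 15, 1), (27, 16, 1), (32, 17, 1), (33, 18, 1), (34, 19, 1), (35, 20, 1), (0, 21, 1), (62, 21, 1), (63, 48, 1), (64, 49, 1), (65, 50, 1), (66, 51, 1), (67, 56, 1), (68, 57, 1), (69, 58, 1), (70, 59, 1), (71, 60, 1), (72, 61, 1)]),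
   ((46, 1), mx46_1, [(52, 3, 1), (7, 6, 1), (17, 14, 1), (18, 15, 1), (19, 16, 1), (32, 25, 1), (33, 26, 1), (34, 27, 1), (36, 28, 1), (37, 29, 1), (38, 30, 1), (1, 31, 1), (52, 31, 1), (53, 45, 1), (54, 46, 1), (55, 47, 1), (56, 49, 1), (57, 50, 1), (58, 51, 1), (67, 64, 1), (68, 65, 1), (69, 66, 1), (77, 76, 1)]),
   ((42, 1), mx42_1, [(48, 0, 1), (48, 3, 1), (11, 8, 1), (12, 9, 1), (13, 10, 1), (21, 20, 1), (28, 25, 1), (29, 26, 1), (30, 27, 1), (36, 32, 1), (37, 33, 1), (38, 34, 1), (2, 35, 1), (48, 35, 1), (49, 45, 1), (50, 46, 1), (51, 47, 1), (56, 53, 1), (57, 54, 1), (58, 55, 1), (63, 62, 1), (73, 70, 1), (74, 71, 1), (75, 72, 1)]),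
   ((39, 1), mx39_1, [(45, 1, 1), (45, 2, 1), (45, 4, 1), (8, 7, 1), (14, 12, 1), (15, 13, 1), (20, 19, 1), (25, 23, 1), (26, 24, 1), (31, 30, 1), (35, 34, 1), (39, 36, 1), (40, 37, 1), (3, 38, 1), (45, 38, 1), (46, 43, 1), (47, 44, 1), (49, 48, 1), (53, 52, 1), (59, 57, 1), (60, 58, 1), (64, 63, 1), (70, 68, 1), (71, 69, 1), (76, 75, 1)]),
   ((37, 1), mx37_1, [(43, 3, 1), (43, 5, 1), (9, 8, 1), (12, 11, 1), (16, 15, 1), (19, 18, 1), (23, 22, 1), (27, 26, 1), (30, 29, 1), (34, 33, 1), (38, 37, 1), (41, 39, 1), (4, 40, 1), (43, 40, 1), (44, 42, 1), (46, 45, 1), (50, 49, 1), (54, 53, 1), (57, 56, 1), (61, 60, 1), (65, 64, 1), (68, 67, 1), (72, 71, 1), (75, 74, 1)]),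
   ((36, 1), mx36_1, [(42, 4, 1), (10, 9, 1), (13, 12, 1), (15, 14, 1), (18, 17, 1), (24, 23, 1), (26, 25, 1), (29, 28, 1), (33, 32, 1), (37, 36, 1), (40, 39, 1), (5, 41, 1), (42, 41, 1), (44, 43, 1), (47, 46, 1), (51, 50, 1), (55, 54, 1), (58, 57, 1), (60, 59, 1), (66, 65, 1), (69, 68, 1), (71, 70, 1), (74, 73, 1)]),
   ((15, 1), mx15_1, [(21, 2, 1), (11, 22, 1), (12, 23, 1), (13, 24, 1), (14, 25, 1), (15, 26, 1), (16, 27, 1), (17, 32, 1), (18, 33, 1), (19, 34, 1), (20, 35, 1), (0, 62, 1), (21, 62, 1), (48, 63, 1), (49, 64, 1), (50, 65, 1), (51, 66, 1), (56, 67, 1), (57, 68, 1), (58, 69, 1), (59, 70, 1), (60, 71, 1), (61, 72, 1)]),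
   ((25, 1), mx25_1, [(31, 3, 1), (6, 7, 1), (14, 17, 1), (15, 18, 1), (16, 19, 1), (25, 32, 1), (26, 33, 1), (27, 34, 1), (28, 36, 1), (29, 37, 1), (30, 38, 1), (1, 52, 1), (31, 52, 1), (45, 53, 1), (46, 54, 1), (47, 55, 1), (49, 56, 1), (50, 57, 1), (51, 58, 1), (64, 67, 1), (65, 68, 1), (66, 69, 1), (76, 77, 1)]),
   ((29, 1), mx29_1, [(35, 0, 1), (35, 3, 1), (8, 11, 1), (9, 12, 1), (10, 13, 1), (20, 21, 1), (25, 28, 1), (26, 29, 1), (27, 30, 1), (32, 36, 1), (33, 37, 1), (34, 38, 1), (2, 48, 1), (35, 48, 1), (45, 49, 1), (46, 50, 1), (47, 51, 1), (53, 56, 1), (54, 57, 1), (55, 58, 1), (62, 63, 1), (70, 73, 1), (71, 74, 1), (72, 75, 1)]),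
   ((32, 1), mx32_1, [(38, 1, 1), (38, 2, 1), (38, 4, 1), (7, 8, 1), (12, 14, 1), (13, 15, 1), (19, 20, 1), (23, 25, 1), (24, 26, 1), (30, 31, 1), (34, 35, 1), (36, 39, 1), (37, 40, 1), (3, 45, 1), (38, 45, 1), (43, 46, 1), (44, 47, 1), (48, 49, 1), (52, 53, 1), (57, 59, 1), (58, 60, 1), (63, 64, 1), (68, 70, 1), (69, 71, 1), (75, 76, 1)]),
   ((34, 1), mx34_1, [(40, 3, 1), (40, 5, 1), (8, 9, 1), (11, 12, 1), (15, 16, 1), (18, 19, 1), (22, 23, 1), (26, 27, 1), (29, 30, 1), (33, 34, 1), (37, 38, 1), (39, 41, 1), (4, 43, 1), (40, 43, 1), (42, 44, 1), (45, 46, 1), (49, 50, 1), (53, 54, 1), (56, 57, 1), (60, 61, 1), (64, 65, 1), (67, 68, 1), (71, 72, 1), (74, 75, 1)]),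
   ((35, 1), mx35_1, [(41, 4, 1), (9, 10, 1), (12, 13, 1), (14, 15, 1), (17, 18, 1), (23, 24, 1), (25, 26, 1), (28, 29, 1), (32, 33, 1), (36, 37, 1), (39, 40, 1), (5, 42, 1), (41, 42, 1), (43, 44, 1), (46, 47, 1), (50, 51, 1), (54, 55, 1), (57, 58, 1), (59, 60, 1), (65, 66, 1), (68, 69, 1), (70, 71, 1), (73, 74, 1)]),
   ((0, 1), mx0_1, [(6, 1, 1), (7, 52, 1), (8, 53, 1), (9, 54, 1), (10, 55, 1), (11, 56, 1), (12, 57, 1), (13, 58, 1), (14, 59, 1), (15, 60, 1), (16, 61, 1), (22, 67, 1), (23, 68, 1), (24, 69, 1), (25, 70, 1), (26, 71, 1), (27, 72, 1), (28, 73, 1), (29, 74, 1), (30, 75, 1), (31, 76, 1), (0, 77, 1), (3, 77, 1), (5, 77, 1), (6, 77, 1)]),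
   ((1, 1), mx1_1, [(7, 1, 1), (7, 3, 1), (6, 31, 1), (8, 45, 1), (9, 46, 1), (10, 47, 1), (11, 49, 1), (12, 50, 1), (13, 51, 1), (17, 59, 1), (18, 60, 1), (19, 61, 1), (22, 64, 1), (23, 65, 1), (24, 66, 1), (32, 70, 1), (33, 71, 1), (34, 72, 1), (36, 73, 1), (37, 74, 1), (38, 75, 1), (0, 76, 1), (1, 76, 1), (3, 76, 1), (5, 76, 1), (7, 76, 1), (52, 77, 1)]),
   ((2, 1), mx2_1, [(8, 2, 1), (8, 3, 1), (8, 4, 1), (6, 30, 1), (7, 38, 1), (9, 43, 1), (10, 44, 1), (11, 48, 1), (14, 50, 1), (15, 51, 1), (17, 57, 1), (18, 58, 1), (20, 61, 1), (22, 63, 1), (25, 65, 1), (26, 66, 1), (32, 68, 1), (33, 69, 1), (35, 72, 1), (39, 73, 1), (40, 74, 1), (0, 75, 1), (1, 75, 1), (5, 75, 1), (8, 75, 1), (45, 76, 1), (53, 77, 1)]),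
   ((6, 1), mx6_1, [(12, 0, 1), (12, 2, 1), (12, 3, 1), (12, 4, 1), (12, 5, 1), (6, 26, 1), (7, 33, 1), (9, 35, 1), (11, 40, 1), (13, 42, 1), (14, 45, 1), (16, 47, 1), (17, 53, 1), (19, 55, 1), (21, 60, 1), (23, 62, 1), (28, 64, 1), (30, 66, 1), (36, 67, 1), (38, 69, 1), (41, 70, 1), (0, 71, 1), (1, 71, 1), (2, 71, 1), (4, 71, 1), (5, 71, 1), (12, 71, 1), (43, 72, 1), (48, 74, 1), (50, 76, 1), (57, 77, 1)]),
   ((8, 1), mx8_1, [(14, 0, 1), (14, 1, 1), (14, 3, 1), (14, 5, 1), (6, 24, 1), (8, 33, 1), (9, 34, 1), (11, 37, 1), (12, 38, 1), (15, 42, 1), (16, 44, 1), (17, 52, 1), (20, 55, 1), (21, 58, 1), (25, 62, 1), (28, 63, 1), (31, 66, 1), (39, 67, 1), (41, 68, 1), (0, 69, 1), (1, 69, 1), (2, 69, 1), (3, 69, 1), (4, 69, 1), (5, 69, 1), (14, 69, 1), (45, 71, 1), (46, 72, 1), (49, 74, 1), (50, 75, 1), (59, 77, 1)]),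
   ((11, 1), mx11_1, [(17, 0, 1), (17, 1, 1), (17, 5, 1), (7, 24, 1), (8, 26, 1), (9, 27, 1), (11, 29, 1), (12, 30, 1), (14, 31, 1), (18, 42, 1), (19, 44, 1), (20, 47, 1), (21, 51, 1), (32, 62, 1), (36, 63, 1), (39, 64, 1), (41, 65, 1), (0, 66, 1), (2, 66, 1), (3, 66, 1), (4, 66, 1), (5, 66, 1), (17, 66, 1), (52, 69, 1), (53, 71, 1), (54, 72, 1), (56, 74, 1), (57, 75, 1), (59, 76, 1)]),
   ((18, 1), mx18_1, [(24, 0, 1), (24, 3, 1), (24, 5, 1), (6, 14, 1), (7, 17, 1), (10, 20, 1), (13, 21, 1), (22, 39, 1), (23, 41, 1), (26, 45, 1), (27, 46, 1), (29, 49, 1), (30, 50, 1), (33, 53, 1), (34, 54, 1), (37, 56, 1), (38, 57, 1), (1, 59, 1), (2, 59, 1), (4, 59, 1), (24, 59, 1), (42, 60, 1), (44, 61, 1), (62, 70, 1), (63, 73, 1), (66, 76, 1), (69, 77, 1)]),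
   ((20, 1), mx20_1, [(26, 0, 1), (26, 1, 1), (26, 2, 1), (26, 3, 1), (26, 4, 1), (26, 5, 1), (6, 12, 1), (8, 17, 1), (10, 19, 1), (15, 21, 1), (22, 36, 1), (24, 38, 1), (25, 41, 1), (27, 43, 1), (29, 48, 1), (31, 50, 1), (33, 52, 1), (35, 54, 1), (40, 56, 1), (1, 57, 1), (2, 57, 1), (3, 57, 1), (4, 57, 1), (26, 57, 1), (42, 58, 1), (45, 59, 1), (47, 61, 1), (62, 68, 1), (64, 73, 1), (66, 75, 1), (71, 77, 1)]),
   ((24, 1), mx24_1, [(30, 1, 1), (30, 2, 1), (30, 3, 1), (30, 4, 1), (6, 8, 1), (12, 17, 1), (13, 18, 1), (16, 20, 1), (23, 32, 1), (24, 33, 1), (27, 35, 1), (28, 39, 1), (29, 40, 1), (31, 45, 1), (38, 52, 1), (1, 53, 1), (3, 53, 1), (30, 53, 1), (43, 54, 1), (44, 55, 1), (48, 56, 1), (50, 59, 1), (51, 60, 1), (63, 67, 1), (65, 70, 1), (66, 71, 1), (75, 77, 1)]),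
   ((27, 1), mx27_1, [(33, 0, 1), (33, 1, 1), (33, 2, 1), (33, 4, 1), (33, 5, 1), (7, 12, 1), (8, 14, 1), (10, 16, 1), (18, 21, 1), (22, 28, 1), (24, 30, 1), (26, 31, 1), (32, 41, 1), (34, 43, 1), (35, 46, 1), (37, 48, 1), (40, 49, 1), (2, 50, 1), (3, 50, 1), (4, 50, 1), (33, 50, 1), (42, 51, 1), (52, 57, 1), (53, 59, 1), (55, 61, 1), (62, 65, 1), (67, 73, 1), (69, 75, 1), (71, 76, 1)]),
   ((44, 1), mx44_1, [(50, 0, 1), (50, 1, 1), (50, 2, 1), (50, 4, 1), (50, 5, 1), (12, 7, 1), (14, 8, 1), (16, 10, 1), (21, 18, 1), (28, 22, 1), (30, 24, 1), (31, 26, 1), (41, 32, 1), (2, 33, 1), (3, 33, 1), (4, 33, 1), (50, 33, 1), (43, 34, 1), (46, 35, 1), (48, 37, 1), (49, 40, 1), (51, 42, 1), (57, 52, 1), (59, 53, 1), (61, 55, 1), (65, 62, 1), (73, 67, 1), (75, 69, 1), (76, 71, 1)]),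
   ((47, 1), mx47_1, [(53, 1, 1), (53, 2, 1), (53, 3, 1), (53, 4, 1), (8, 6, 1), (17, 12, 1), (18, 13, 1), (20, 16, 1), (32, 23, 1), (33, 24, 1), (35, 27, 1), (39, 28, 1), (40, 29, 1), (1, 30, 1), (3, 30, 1), (53, 30, 1), (45, 31, 1), (52, 38, 1), (54, 43, 1), (55, 44, 1), (56, 48, 1), (59, 50, 1), (60, 51, 1), (67, 63, 1), (70, 65, 1), (71, 66, 1), (77, 75, 1)]),
   ((51, 1), mx51_1, [(57, 0, 1), (57, 1, 1), (57, 2, 1), (57, 3, 1), (57, 4, 1), (57, 5, 1), (12, 6, 1), (17, 8, 1), (19, 10, 1), (21, 15, 1), (36, 22, 1), (38, 24, 1), (41, 25, 1), (1, 26, 1), (2, 26, 1), (3, 26, 1), (4, 26, 1), (57, 26, 1), (43, 27, 1), (48, 29, 1), (50, 31, 1), (52, 33, 1), (54, 35, 1), (56, 40, 1), (58, 42, 1), (59, 45, 1), (61, 47, 1), (68, 62, 1), (73, 64, 1), (75, 66, 1), (77, 71, 1)]),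
   ((53, 1), mx53_1, [(59, 0, 1), (59, 3, 1), (59, 5, 1), (14, 6, 1), (17, 7, 1), (20, 10, 1), (21, 13, 1), (39, 22, 1), (41, 23, 1), (1, 24, 1), (2, 24, 1), (4, 24, 1), (59, 24, 1), (45, 26, 1), (46, 27, 1), (49, 29, 1), (50, 30, 1), (53, 33, 1), (54, 34, 1), (56, 37, 1), (57, 38, 1), (60, 42, 1), (61, 44, 1), (70, 62, 1), (73, 63, 1), (76, 66, 1), (77, 69, 1)]),
   ((60, 1), mx60_1, [(66, 0, 1), (66, 1, 1), (66, 5, 1), (24, 7, 1), (26, 8, 1), (27, 9, 1), (29, 11, 1), (30, 12, 1), (31, 14, 1), (0, 17, 1), (2, 17, 1), (3, 17, 1), (4, 17, 1), (5, 17, 1), (66, 17, 1), (42, 18, 1), (44, 19, 1), (47, 20, 1), (51, 21, 1), (62, 32, 1), (63, 36, 1), (64, 39, 1), (65, 41, 1), (69, 52, 1), (71, 53, 1), (72, 54, 1), (74, 56, 1), (75, 57, 1), (76, 59, 1)]),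
   ((63, 1), mx63_1, [(69, 0, 1), (69, 1, 1), (69, 3, 1), (69, 5, 1), (24, 6, 1), (33, 8, 1), (34, 9, 1), (37, 11, 1), (38, 12, 1), (0, 14, 1), (1, 14, 1), (2, 14, 1), (3, 14, 1), (4, 14, 1), (5, 14, 1), (69, 14, 1), (42, 15, 1), (44, 16, 1), (52, 17, 1), (55, 20, 1), (58, 21, 1), (62, 25, 1), (63, 28, 1), (66, 31, 1), (67, 39, 1), (68, 41, 1), (71, 45, 1), (72, 46, 1), (74, 49, 1), (75, 50, 1), (77, 59, 1)]),
   ((65, 1), mx65_1, [(71, 0, 1), (71, 2, 1), (71, 3, 1), (71, 4, 1), (71, 5, 1), (26, 6, 1), (33, 7, 1), (35, 9, 1), (40, 11, 1), (0, 12, 1), (1, 12, 1), (2, 12, 1), (4, 12, 1), (5, 12, 1), (71, 12, 1), (42, 13, 1), (45, 14, 1), (47, 16, 1), (53, 17, 1), (55, 19, 1), (60, 21, 1), (62, 23, 1), (64, 28, 1), (66, 30, 1), (67, 36, 1), (69, 38, 1), (70, 41, 1), (72, 43, 1), (74, 48, 1), (76, 50, 1), (77, 57, 1)]),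
   ((69, 1), mx69_1, [(75, 2, 1), (75, 3, 1), (75, 4, 1), (30, 6, 1), (38, 7, 1), (0, 8, 1), (1, 8, 1), (5, 8, 1), (75, 8, 1), (43, 9, 1), (44, 10, 1), (48, 11, 1), (50, 14, 1), (51, 15, 1), (57, 17, 1), (58, 18, 1), (61, 20, 1), (63, 22, 1), (65, 25, 1), (66, 26, 1), (68, 32, 1), (69, 33, 1), (72, 35, 1), (73, 39, 1), (74, 40, 1), (76, 45, 1), (77, 53, 1)]),
   ((70, 1), mx70_1, [(76, 1, 1), (76, 3, 1), (31, 6, 1), (0, 7, 1), (1, 7, 1), (3, 7, 1), (5, 7, 1), (76, 7, 1), (45, 8, 1), (46, 9, 1), (47, 10, 1), (49, 11, 1), (50, 12, 1), (51, 13, 1), (59, 17, 1), (60, 18, 1), (61, 19, 1), (64, 22, 1), (65, 23, 1), (66, 24, 1), (70, 32, 1), (71, 33, 1), (72, 34, 1), (73, 36, 1), (74, 37, 1), (75, 38, 1), (77, 52, 1)]),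
   ((71, 1), mx71_1, [(77, 1, 1), (0, 6, 1), (3, 6, 1), (5, 6, 1), (77, 6, 1), (52, 7, 1), (53, 8, 1), (54, 9, 1), (55, 10, 1), (56, 11, 1), (57, 12, 1), (58, 13, 1), (59, 14, 1), (60, 15, 1), (61, 16, 1), (67, 22, 1), (68, 23, 1), (69, 24, 1), (70, 25, 1), (71, 26, 1), (72, 27, 1), (73, 28, 1), (74, 29, 1), (75, 30, 1), (76, 31, 1)]),
   ((56, 2), mx56_2, [(62, 2, 2), (22, 11, 2), (23, 12, 2), (24, 13, 2), (25, 14, 2), (26, 15, 2), (27, 16, 2), (32, 17, 2), (33, 18, 2), (34, 19, 2), (35, 20, 2), (0, 21, 2), (62, 21, 3), (63, 48, 2), (64, 49, 2), (65, 50, 2), (66, 51, 2), (67, 56, 2), (68, 57, 2), (69, 58, 2), (70, 59, 2), (71, 60, 2), (72, 61, 2)]),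
   ((56, 3), mx56_3, [(62, 2, 3), (22, 11, 3), (23, 12, 3), (24, 13, 3), (25, 14, 3), (26, 15, 3), (27, 16, 3), (32, 17, 3), (33, 18, 3), (34, 19, 3), (35, 20, 3), (0, 21, 3), (62, 21, 2), (63, 48, 3), (64, 49, 3), (65, 50, 3), (66, 51, 3), (67, 56, 3), (68, 57, 3), (69, 58, 3), (70, 59, 3), (71, 60, 3), (72, 61, 3)]),
   ((36, 2), mx36_2, [(42, 4, 2), (10, 9, 2), (13, 12, 2), (15, 14, 2), (18, 17, 2), (24, 23, 2), (26, 25, 2), (29, 28, 2), (33, 32, 2), (37, 36, 2), (40, 39, 2), (5, 41, 2), (42, 41, 3), (44, 43, 2), (47, 46, 2), (51, 50, 2), (55, 54, 2), (58, 57, 2), (60, 59, 2), (66, 65, 2), (69, 68, 2), (71, 70, 2), (74, 73, 2)]),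
   ((36, 3), mx36_3, [(42, 4, 3), (10, 9, 3), (13, 12, 3), (15, 14, 3), (18, 17, 3), (24, 23, 3), (26, 25, 3), (29, 28, 3), (33, 32, 3), (37, 36, 3), (40, 39, 3), (5, 41, 3), (42, 41, 2), (44, 43, 3), (47, 46, 3), (51, 50, 3), (55, 54, 3), (58, 57, 3), (60, 59, 3), (66, 65, 3), (69, 68, 3), (71, 70, 3), (74, 73, 3)]),
   ((42, 2), mx42_2, [(48, 0, 2), (48, 3, 2), (11, 8, 2), (12, 9, 2), (13, 10, 2), (21, 20, 2), (28, 25, 2), (29, 26, 2), (30, 27, 2), (36, 32, 2), (37, 33, 2), (38, 34, 2), (2, 35, 2), (48, 35, 3), (49, 45, 2), (50, 46, 2), (51, 47, 2), (56, 53, 2), (57, 54, 2), (58, 55, 2), (63, 62, 2), (73, 70, 2), (74, 71, 2), (75, 72, 2)]),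
   ((42, 3), mx42_3, [(48, 0, 3), (48, 3, 3), (11, 8, 3), (12, 9, 3), (13, 10, 3), (21, 20, 3), (28, 25, 3), (29, 26, 3), (30, 27, 3), (36, 32, 3), (37, 33, 3), (38, 34, 3), (2, 35, 3), (48, 35, 2), (49, 45, 3), (50, 46, 3), (51, 47, 3), (56, 53, 3), (57, 54, 3), (58, 55, 3), (63, 62, 3), (73, 70, 3), (74, 71, 3), (75, 72, 3)]),
   ((37, 2), mx37_2, [(43, 3, 2), (43, 5, 2), (9, 8, 2), (12, 11, 2), (16, 15, 2), (19, 18, 2), (23, 22, 2), (27, 26, 2), (30, 29, 2), (34, 33, 2), (38, 37, 2), (41, 39, 2), (4, 40, 2), (43, 40, 3), (44, 42, 2), (46, 45, 2), (50, 49, 2), (54, 53, 2), (57, 56, 2), (61, 60, 2), (65, 64, 2), (68, 67, 2), (72, 71, 2), (75, 74, 2)]),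
   ((37, 3), mx37_3, [(43, 3, 3), (43, 5, 3), (9, 8, 3), (12, 11, 3), (16, 15, 3), (19, 18, 3), (23, 22, 3), (27, 26, 3), (30, 29, 3), (34, 33, 3), (38, 37, 3), (41, 39, 3), (4, 40, 3), (43, 40, 2), (44, 42, 3), (46, 45, 3), (50, 49, 3), (54, 53, 3), (57, 56, 3), (61, 60, 3), (65, 64, 3), (68, 67, 3), (72, 71, 3), (75, 74, 3)]),
   ((15, 2), mx15_2, [(21, 2, 2), (11, 22, 2), (12, 23, 2), (13, 24, 2), (14, 25, 2), (15, 26, 2), (16, 27, 2), (17, 32, 2), (18, 33, 2), (19, 34, 2), (20, 35, 2), (0, 62, 2), (21, 62, 3), (48, 63, 2), (49, 64, 2), (50, 65, 2), (51, 66, 2), (56, 67, 2), (57, 68, 2), (58, 69, 2), (59, 70, 2), (60, 71, 2), (61, 72, 2)]),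
   ((15, 3), mx15_3, [(21, 2, 3), (11, 22, 3), (12, 23, 3), (13, 24, 3), (14, 25, 3), (15, 26, 3), (16, 27, 3), (17, 32, 3), (18, 33, 3), (19, 34, 3), (20, 35, 3), (0, 62, 3), (21, 62, 2), (48, 63, 3), (49, 64, 3), (50, 65, 3), (51, 66, 3), (56, 67, 3), (57, 68, 3), (58, 69, 3), (59, 70, 3), (60, 71, 3), (61, 72, 3)]),
   ((35, 2), mx35_2, [(41, 4, 2), (9, 10, 2), (12, 13, 2), (14, 15, 2), (17, 18, 2), (23, 24, 2), (25, 26, 2), (28, 29, 2), (32, 33, 2), (36, 37, 2), (39, 40, 2), (5, 42, 2), (41, 42, 3), (43, 44, 2), (46, 47, 2), (50, 51, 2), (54, 55, 2), (57, 58, 2), (59, 60, 2), (65, 66, 2), (68, 69, 2), (70, 71, 2), (73, 74, 2)]),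
   ((35, 3), mx35_3, [(41, 4, 3), (9, 10, 3), (12, 13, 3), (14, 15, 3), (17, 18, 3), (23, 24, 3), (25, 26, 3), (28, 29, 3), (32, 33, 3), (36, 37, 3), (39, 40, 3), (5, 42, 3), (41, 42, 2), (43, 44, 3), (46, 47, 3), (50, 51, 3), (54, 55, 3), (57, 58, 3), (59, 60, 3), (65, 66, 3), (68, 69, 3), (70, 71, 3), (73, 74, 3)]),
   ((29, 2), mx29_2, [(35, 0, 2), (35, 3, 2), (8, 11, 2), (9, 12, 2), (10, 13, 2), (20, 21, 2), (25, 28, 2), (26, 29, 2), (27, 30, 2), (32, 36, 2), (33, 37, 2), (34, 38, 2), (2, 48, 2), (35, 48, 3), (45, 49, 2), (46, 50, 2), (47, 51, 2), (53, 56, 2), (54, 57, 2), (55, 58, 2), (62, 63, 2), (70, 73, 2), (71, 74, 2), (72, 75, 2)]),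
   ((29, 3), mx29_3, [(35, 0, 3), (35, 3, 3), (8, 11, 3), (9, 12, 3), (10, 13, 3), (20, 21, 3), (25, 28, 3), (26, 29, 3), (27, 30, 3), (32, 36, 3), (33, 37, 3), (34, 38, 3), (2, 48, 3), (35, 48, 2), (45, 49, 3), (46, 50, 3), (47, 51, 3), (53, 56, 3), (54, 57, 3), (55, 58, 3), (62, 63, 3), (70, 73, 3), (71, 74, 3), (72, 75, 3)]),
   ((34, 2), mx34_2, [(40, 3, 2), (40, 5, 2), (8, 9, 2), (11, 12, 2), (15, 16, 2), (18, 19, 2), (22, 23, 2), (26, 27, 2), (29, 30, 2), (33, 34, 2), (37, 38, 2), (39, 41, 2), (4, 43, 2), (40, 43, 3), (42, 44, 2), (45, 46, 2), (49, 50, 2), (53, 54, 2), (56, 57, 2), (60, 61, 2), (64, 65, 2), (67, 68, 2), (71, 72, 2), (74, 75, 2)]),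
   ((34, 3), mx34_3, [(40, 3, 3), (40, 5, 3), (8, 9, 3), (11, 12, 3), (15, 16, 3), (18, 19, 3), (22, 23, 3), (26, 27, 3), (29, 30, 3), (33, 34, 3), (37, 38, 3), (39, 41, 3), (4, 43, 3), (40, 43, 2), (42, 44, 3), (45, 46, 3), (49, 50, 3), (53, 54, 3), (56, 57, 3), (60, 61, 3), (64, 65, 3), (67, 68, 3), (71, 72, 3), (74, 75, 3)])]

end CfsgLib.E6TwoFive
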